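import Mathlib
import Groth.Agent.Lib.Helper7.FibTop.Sep
import Groth.Agent.Lib.Helper1.ChowI
import Groth.Agent.Lib.Helper1.HProj2

set_option autoImplicit false
set_option linter.style.haveILetI false
set_option linter.unusedVariables false
set_option linter.unusedSectionVars false
set_option backward.isDefEq.respectTransparency.types false

open CategoryTheory CategoryTheory.Limits AlgebraicGeometry Opposite Topology TopologicalSpace

universe u

/-! helper7: base change of morphisms over a base along a morphism to the base, and a Chow-type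
criterion for properness of the morphisms of fibres: closedness of the trace of the image of an
immersion into a proper scheme. -/

namespace Groth.Agent.Helper7.FibProper

section FibMap

variable {A B C S T : Scheme.{u}} {u : A ⟶ S} {v : B ⟶ S} {w : C ⟶ S}

/-- the base change along `t` of a morphism over the base. -/
noncomputable def fm (φ : A ⟶ B) (h : φ ≫ v = u) (t : T ⟶ S) : pullback u t ⟶ pullback v t :=
  pullback.map u t v t φ (𝟙 _) (𝟙 _) (by rw [Category.comp_id, h]) (by simp)

@[reassoc]
theorem fm_fst (φ : A ⟶ B) (h : φ ≫ v = u) (t : T ⟶ S) :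
    fm φ h t ≫ pullback.fst v t = pullback.fst u t ≫ φ :=
  pullback.lift_fst _ _ _

@[reassoc]
theorem fm_snd (φ : A ⟶ B) (h : φ ≫ v = u) (t : T ⟶ S) :
    fm φ h t ≫ pullback.snd v t = pullback.snd u t := by
  unfold fm pullback.map
  rw [pullback.lift_snd, Category.comp_id]

theorem isPullback_fm (φ : A ⟶ B) (h : φ ≫ v = u) (t : T ⟶ S) :
    IsPullback (pullback.fst u t) (fm φ h t) φ (pullback.fst v t) := by
  have h1 : IsPullback (fm φ h t) (pullback.fst u t) (pullback.fst v t) φ := by
    refine IsPullback.of_right ?_ (fm_fst φ h t) (IsPullback.of_hasPullback v t).flip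
    rw [fm_snd, h]
    exact (IsPullback.of_hasPullback u t).flip
  exact h1.flip

theorem fm_comp (φ : A ⟶ B) (ψ : B ⟶ C) (h₁ : φ ≫ v = u) (h₂ : ψ ≫ w = v) (t : T ⟶ S) :
    fm φ h₁ t ≫ fm ψ h₂ t = fm (φ ≫ ψ) (by rw [Category.assoc, h₂, h₁]) t := by
  apply pullback.hom_ext
  · rw [Category.assoc, fm_fst, fm_fst_assoc, fm_fst]
  · rw [Category.assoc, fm_snd, fm_snd, fm_snd]

theorem fm_congr {φ φ' : A ⟶ B} (e : φ = φ') (h : φ ≫ v = u) (t : T ⟶ S) :
    fm φ h t = fm φ' (e ▸ h) t := by
  subst e
  rfl

set_option backward.isDefEq.respectTransparency false in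
theorem fm_eq_fiberMap {X Y : Scheme.{u}} (f : X ⟶ Y) (g : Y ⟶ S) (s : S) :
    fm (u := f ≫ g) (v := g) f rfl (S.fromSpecResidueField s) = MoreMor.fiberMap f g s := by
  apply pullback.hom_ext
  · rw [fm_fst]
    exact (Groth.Agent.Helper7.ConsMor.fiberMap_fiberι f g s).symm
  · rw [fm_snd]
    exact (Groth.Agent.Helper7.ConsMor.fiberMap_fiberToSpecResidueField f g s).symm

end FibMap

section Core

/-- Chow-type criterion for properness: with a proper surjective `π`, an immersion `j` into a
scheme proper over `Y` and `f` separated of finite type. -/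
theorem isProper_iff_isClosed_range {X' X Y P : Scheme.{u}} (π : X' ⟶ X) (f : X ⟶ Y)
    (j : X' ⟶ P) (p : P ⟶ Y) [IsProper π] [Surjective π] [IsSeparated f]
    [LocallyOfFiniteType f] [IsImmersion j] [IsProper p] (h : π ≫ f = j ≫ p) :
    IsProper f ↔ IsClosed (Set.range j) := by
  constructor
  · intro hf
    haveI : IsProper (j ≫ p) := by rw [← h]; infer_instance
    haveI := Groth.Agent.Helper1.Chow.isClosedImmersion_of_isProper_comp j p
    exact j.isClosedEmbedding.isClosed_range
  · intro hc
    haveI : IsClosedImmersion j := IsClosedImmersion.of_isPreimmersion j hc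
    haveI : IsProper (π ≫ f) := by rw [h]; infer_instance
    haveI : UniversallyClosed f := UniversallyClosed.of_comp_surjective π f
    exact {}

set_option backward.isDefEq.respectTransparency false in
/-- the fibrewise form of the criterion. -/
theorem isProper_fiberMap_iff {X' X Y P S : Scheme.{u}} (π : X' ⟶ X) (f : X ⟶ Y) (g : Y ⟶ S)
    (j : X' ⟶ P) (p : P ⟶ Y) [IsProper π] [Surjective π] [IsSeparated f]
    [LocallyOfFiniteType f] [IsImmersion j] [IsProper p] (h : π ≫ f = j ≫ p) (s : S) :
    IsProper (MoreMor.fiberMap f g s) ↔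
      IsClosed (((p ≫ g).fiberι s) ⁻¹' Set.range j) := by
  have hπ : π ≫ (f ≫ g) = (π ≫ f) ≫ g := (Category.assoc _ _ _).symm
  have hj : j ≫ (p ≫ g) = (π ≫ f) ≫ g := by rw [h, Category.assoc]
  obtain ⟨t, ht⟩ : ∃ t, t = S.fromSpecResidueField s := ⟨_, rfl⟩
  haveI : IsProper (fm π hπ t) :=
    MorphismProperty.of_isPullback (P := @IsProper) (isPullback_fm π hπ t) inferInstance
  haveI : Surjective (fm π hπ t) :=
    MorphismProperty.of_isPullback (P := @Surjective) (isPullback_fm π hπ t) inferInstance
  haveI : IsSeparated (fm (u := f ≫ g) (v := g) f rfl t) :=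
    MorphismProperty.of_isPullback (P := @IsSeparated) (isPullback_fm f rfl t) inferInstance
  haveI : LocallyOfFiniteType (fm (u := f ≫ g) (v := g) f rfl t) :=
    MorphismProperty.of_isPullback (P := @LocallyOfFiniteType) (isPullback_fm f rfl t)
      inferInstance
  haveI : IsImmersion (fm j hj t) :=
    MorphismProperty.of_isPullback (P := @IsImmersion) (isPullback_fm j hj t) inferInstance
  haveI : IsProper (fm (u := p ≫ g) (v := g) p rfl t) :=
    MorphismProperty.of_isPullback (P := @IsProper) (isPullback_fm p rfl t) inferInstance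
  have hcomm : fm π hπ t ≫ fm (u := f ≫ g) (v := g) f rfl t =
      fm j hj t ≫ fm (u := p ≫ g) (v := g) p rfl t := by
    rw [fm_comp, fm_comp]
    exact fm_congr h _ t
  have key := isProper_iff_isClosed_range _ _ _ _ hcomm
  rw [Groth.Agent.Helper7.FibTop.range_snd_of_isPullback (isPullback_fm j hj t)] at key
  subst ht
  rw [fm_eq_fiberMap] at key
  exact key

end Core

end Groth.Agent.Helper7.FibProper
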