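import Mathlib
import Groth.Agent.Lib.Helper7.FibProper.Core
import Groth.Agent.Lib.Helper7.ConsMor.Cons

set_option autoImplicit false
set_option linter.style.haveILetI false
set_option linter.unusedVariables false
set_option linter.unusedSectionVars false
set_option backward.isDefEq.respectTransparency.types false

open CategoryTheory CategoryTheory.Limits AlgebraicGeometry Opposite Topology TopologicalSpace

universe u

/-! helper7: separatedness and properness of morphisms of algebraic schemes are invariant under
extension of the base field. -/

namespace Groth.Agent.Helper7.FibProper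

open Groth.Agent.Helper7.ConsMor Groth.Agent.Helper7.FibTop

/-- separatedness descends along a universally open surjective base change. -/
theorem isSeparated_of_isPullback {X Y X' Y' : Scheme.{u}} {f : X ⟶ Y} {f' : X' ⟶ Y'}
    {i : X' ⟶ X} {j : Y' ⟶ Y} (h : IsPullback i f' f j) [UniversallyOpen j] [Surjective j]
    (hf' : IsSeparated f') : IsSeparated f := by
  have hθ := isPullback_diagMap_base h
  haveI : UniversallyOpen (diagMap h) :=
    MorphismProperty.of_isPullback (P := @UniversallyOpen) hθ.flip inferInstance
  haveI : Surjective (diagMap h) :=
    MorphismProperty.of_isPullback (P := @Surjective) hθ.flip inferInstance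
  have hq : IsQuotientMap (diagMap h) :=
    (diagMap h).isOpenMap.isQuotientMap (diagMap h).continuous (diagMap h).surjective
  have hr : Set.range (pullback.diagonal f') = (diagMap h) ⁻¹' Set.range (pullback.diagonal f) :=
    range_snd_of_isPullback (isPullback_diagonal h)
  have hc : IsClosed (Set.range (pullback.diagonal f')) :=
    (pullback.diagonal f').isClosedEmbedding.isClosed_range
  rw [hr, hq.isClosed_preimage] at hc
  exact ⟨IsClosedImmersion.of_isPreimmersion _ hc⟩

theorem isFieldStableMor_isSeparated :
    ConsProp.IsFieldStableMor (MorProp (@IsSeparated : MorphismProperty Scheme.{u})) := by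
  intro X X' Y Y' T T' f g f' g' eX eY h _ _ _ _ _ _ _ _ hY hX
  constructor
  · intro hf
    exact MorphismProperty.of_isPullback (P := @IsSeparated) hX hf
  · intro hf'
    obtain ⟨h1, h2, h3, h4, h5⟩ := field_setup f g f' g' eX eY h hY
    haveI : UniversallyOpen eY :=
      MorphismProperty.of_isPullback (P := @UniversallyOpen) hY.flip inferInstance
    exact isSeparated_of_isPullback hX hf'

theorem isFieldStableMor_isProper :
    ConsProp.IsFieldStableMor (MorProp (@IsProper : MorphismProperty Scheme.{u})) := by
  intro X X' Y Y' T T' f g f' g' eX eY h _ _ _ _ _ _ _ _ hY hX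
  constructor
  · intro hf
    exact MorphismProperty.of_isPullback (P := @IsProper) hX hf
  · intro hf'
    have hf'' : IsProper f' := hf'
    obtain ⟨h1, h2, h3, h4, h5⟩ := field_setup f g f' g' eX eY h hY
    haveI : UniversallyOpen eY :=
      MorphismProperty.of_isPullback (P := @UniversallyOpen) hY.flip inferInstance
    haveI : IsSeparated f := isSeparated_of_isPullback hX inferInstance
    haveI : UniversallyClosed f :=
      (inferInstance : MorphismProperty.DescendsAlong (@UniversallyClosed)
        (@Surjective ⊓ @Flat ⊓ @QuasiCompact : MorphismProperty Scheme.{u})).of_isPullback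
        hX.flip ⟨⟨h2, h1⟩, h3⟩ inferInstance
    haveI : LocallyOfFiniteType f := locallyOfFiniteType_of_comp f g
    exact ({} : IsProper f)

end Groth.Agent.Helper7.FibProper
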