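import Mathlib
import Groth.Agent.Lib.Helper7.FibProper.Stable

set_option autoImplicit false
set_option linter.style.haveILetI false
set_option linter.unusedVariables false
set_option linter.unusedSectionVars false
set_option backward.isDefEq.respectTransparency.types false

open CategoryTheory CategoryTheory.Limits AlgebraicGeometry Opposite Topology TopologicalSpace

universe u

/-! helper7: transfer of the generic constructibility dichotomy along dominant base changes of
finite type between integral Noetherian schemes, and spreading out of a property of the generic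
fibre map over a finitely generated subalgebra of the fraction field. -/

namespace Groth.Agent.Helper7.FibProper

open Groth.Agent.Helper7.ConsMor Groth.Agent.Helper7.FibTop Groth.Agent.Helper7.LimStage
  Groth.Agent.Helper7.ConsPair Groth.Agent.Helper7

/-- a subset of an integral Noetherian scheme whose preimage under a dominant morphism of finite
type from an integral Noetherian scheme has nonempty interior has nonempty interior. -/
theorem interior_nonempty_of_preimage {S S' : Scheme.{u}} (π : S' ⟶ S) [IsIntegral S]
    [IsNoetherian S] [IsIntegral S'] [IsNoetherian S'] [LocallyOfFiniteType π] [QuasiCompact π]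
    (hπ : genericPoint S ∈ Set.range π) (E : Set S) (h : (interior (π ⁻¹' E)).Nonempty) :
    (interior E).Nonempty := by
  have hη' : genericPoint S' ∈ interior (π ⁻¹' E) := by
    rw [(genericPoint_spec S').mem_open_set_iff isOpen_interior]
    obtain ⟨x, hx⟩ := h
    exact ⟨x, trivial, hx⟩
  have hπη : π (genericPoint S') = genericPoint S := by
    obtain ⟨x', hx'⟩ := hπ
    have h1 : π (genericPoint S') ⤳ π x' := (genericPoint_specializes x').map π.continuous
    rw [hx'] at h1
    exact (h1.antisymm (genericPoint_specializes _)).eq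
  have hcons : IsConstructible (π '' interior (π ⁻¹' E)) :=
    π.isConstructible_image (Groth.Agent.Helper1.ConstrL.isConstructible_of_isLocallyClosed
      isOpen_interior.isLocallyClosed)
  have hmem : genericPoint S ∈ π '' interior (π ⁻¹' E) := ⟨_, hη', hπη⟩
  have hd : Dense (π '' interior (π ⁻¹' E)) := by
    have h1 : Dense ({genericPoint S} : Set S) := by
      rw [dense_iff_closure_eq]
      exact (genericPoint_spec S).def
    exact h1.mono (Set.singleton_subset_iff.mpr hmem)
  obtain ⟨U, hUo, ⟨x, hx⟩, hUsub⟩ :=
    (Groth.Agent.Helper1.ConstrL.dense_iff_exists_open_of_isConstructible hcons).mp hd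
  refine ⟨x, mem_interior.mpr ⟨U, hUsub.trans ?_, hUo, hx⟩⟩
  rintro _ ⟨y, hy, rfl⟩
  have h1 : y ∈ π ⁻¹' E := interior_subset hy
  exact h1

/-- transfer of the generic constructibility dichotomy along a dominant base change of finite
type. -/
theorem interior_or_of_transfer {P : ∀ ⦃X Y T : Scheme.{u}⦄, (X ⟶ Y) → (Y ⟶ T) → Prop}
    (hP : ConsProp.IsFieldStableMor P) {X Y S X' Y' S' : Scheme.{u}} (f : X ⟶ Y) (g : Y ⟶ S)
    (π : S' ⟶ S) (f' : X' ⟶ Y') (g' : Y' ⟶ S') (pX : X' ⟶ X) (pY : Y' ⟶ Y)
    (hY : IsPullback pY g' g π) (hX : IsPullback pX f' f pY)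
    [IsIntegral S] [IsNoetherian S] [IsIntegral S'] [IsNoetherian S'] [LocallyOfFiniteType π]
    [QuasiCompact π] (hπ : genericPoint S ∈ Set.range π)
    [LocallyOfFiniteType g] [QuasiCompact g] [LocallyOfFiniteType (f ≫ g)]
    [QuasiCompact (f ≫ g)]
    (h : (interior (ConsProp.locusMor P f' g')).Nonempty ∨
      (interior (ConsProp.locusMor P f' g')ᶜ).Nonempty) :
    (interior (ConsProp.locusMor P f g)).Nonempty ∨
      (interior (ConsProp.locusMor P f g)ᶜ).Nonempty := by
  rw [locusMor_eq_preimage hP f g π f' g' pX pY hY hX] at h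
  rcases h with h | h
  · exact Or.inl (interior_nonempty_of_preimage π hπ _ h)
  · rw [← Set.preimage_compl] at h
    exact Or.inr (interior_nonempty_of_preimage π hπ _ h)

set_option backward.isDefEq.respectTransparency false in
/-- spreading out a property of the generic fibre map over the spectrum of a finitely generated
subalgebra of the fraction field. -/
theorem exists_spread_mor (Q : MorphismProperty Scheme.{u})
    [Q.IsStableUnderBaseChange] (hQ : HasStage Q) (R : Type u) [CommRing R] [IsDomain R]
    [IsNoetherianRing R] {X Y : Scheme.{u}} (f : X ⟶ Y) (g : Y ⟶ Spec (CommRingCat.of R))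
    [LocallyOfFiniteType g] [QuasiCompact g] [LocallyOfFiniteType (f ≫ g)]
    [QuasiCompact (f ≫ g)]
    (hη : Q (MoreMor.fiberMap f g (genericPoint ↥(Spec (CommRingCat.of R))))) :
    ∃ (C : Type u) (_ : CommRing C) (_ : IsDomain C) (_ : IsNoetherianRing C)
      (π : Spec (CommRingCat.of C) ⟶ Spec (CommRingCat.of R)) (X' Y' : Scheme.{u})
      (f' : X' ⟶ Y') (g' : Y' ⟶ Spec (CommRingCat.of C)) (pX : X' ⟶ X) (pY : Y' ⟶ Y),
      LocallyOfFiniteType π ∧ QuasiCompact π ∧
        genericPoint ↥(Spec (CommRingCat.of R)) ∈ Set.range π ∧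
        IsPullback pY g' g π ∧ IsPullback pX f' f pY ∧ Q f' := by
  have : IsLocallyNoetherian Y := LocallyOfFiniteType.isLocallyNoetherian g
  have : IsLocallyNoetherian X := LocallyOfFiniteType.isLocallyNoetherian (f ≫ g)
  have hf1 : LocallyOfFinitePresentation f :=
    Groth.Agent.Helper2.locallyOfFinitePresentation_of_comp f g inferInstance inferInstance
  have hf2 : QuasiCompact f := QuasiCompact.of_comp f g
  have hf3 : QuasiSeparated f := inferInstance
  obtain ⟨φ, hφ⟩ := Spec.map_surjective ((Spec (CommRingCat.of R)).fromSpecResidueField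
    (genericPoint ↥(Spec (CommRingCat.of R))))
  let K : Type u := ↑((Spec (CommRingCat.of R)).residueField
    (genericPoint ↥(Spec (CommRingCat.of R))))
  letI : Algebra R K := φ.hom.toAlgebra
  let i₀ : (RelFGSub.Idx R K)ᵒᵖ := op ⟨⊥, Subalgebra.fg_bot⟩
  have hπ : (RelFGSub.specCone R K).π.app i₀ ≫ RelFGSub.toBase R K i₀ =
      (Spec (CommRingCat.of R)).fromSpecResidueField
        (genericPoint ↥(Spec (CommRingCat.of R))) := by
    rw [← hφ]
    exact RelFGSub.π_toBase R K i₀
  obtain ⟨qY, hqY, hY₀⟩ := exists_isPullback_of_fac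
    (IsPullback.of_hasPullback g (RelFGSub.toBase R K i₀)) ((RelFGSub.specCone R K).π.app i₀)
    _ hπ (IsPullback.of_hasPullback g ((Spec (CommRingCat.of R)).fromSpecResidueField
        (genericPoint ↥(Spec (CommRingCat.of R)))))
  obtain ⟨qX, hqX, hX₀⟩ := exists_isPullback_of_fac
    (IsPullback.of_hasPullback f (pullback.fst g (RelFGSub.toBase R K i₀))) qY _ hqY
    (isPullback_fiberMap f g (genericPoint ↥(Spec (CommRingCat.of R))))
  have hcs : ∀ j : (RelFGSub.Idx R K)ᵒᵖ, CompactSpace ↥((RelFGSub.specDiag R K).obj j) := by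
    intro j
    show CompactSpace ↥(Spec _)
    infer_instance
  have := hcs i₀
  have : CompactSpace ↥(pullback g (RelFGSub.toBase R K i₀)) :=
    QuasiCompact.compactSpace_of_compactSpace (pullback.snd g (RelFGSub.toBase R K i₀))
  have hbc : Q (bcHom (pullback.snd f (pullback.fst g (RelFGSub.toBase R K i₀)))
      (pullback.snd g (RelFGSub.toBase R K i₀)) ((RelFGSub.specCone R K).π.app i₀)) :=
    bcHom_of_isPullback _ _ Q _ hY₀ hX₀ hη
  obtain ⟨j, ψ, hj⟩ := hQ (RelFGSub.specDiag R K) (RelFGSub.specCone R K)
    (RelFGSub.isLimit_specCone R K).some _ _ hbc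
  have hYj : IsPullback (pullback.fst (pullback.snd g (RelFGSub.toBase R K i₀))
      ((RelFGSub.specDiag R K).map ψ) ≫ pullback.fst g (RelFGSub.toBase R K i₀))
      (pullback.snd (pullback.snd g (RelFGSub.toBase R K i₀)) ((RelFGSub.specDiag R K).map ψ))
      g (RelFGSub.toBase R K j) := by
    have h1 := (IsPullback.of_hasPullback (pullback.snd g (RelFGSub.toBase R K i₀))
      ((RelFGSub.specDiag R K).map ψ)).paste_horiz
      (IsPullback.of_hasPullback g (RelFGSub.toBase R K i₀))
    rwa [RelFGSub.map_toBase] at h1
  have hXj := (isPullback_bcHom (pullback.snd f (pullback.fst g (RelFGSub.toBase R K i₀)))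
    (pullback.snd g (RelFGSub.toBase R K i₀)) ((RelFGSub.specDiag R K).map ψ)).paste_horiz
    (IsPullback.of_hasPullback f (pullback.fst g (RelFGSub.toBase R K i₀)))
  have hqc : QuasiCompact (RelFGSub.toBase R K j) := by
    show QuasiCompact (Spec.map _)
    infer_instance
  have hmem : genericPoint ↥(Spec (CommRingCat.of R)) ∈ Set.range (RelFGSub.toBase R K j) := by
    obtain ⟨x⟩ : Nonempty ↥(Spec ((Spec (CommRingCat.of R)).residueField
      (genericPoint ↥(Spec (CommRingCat.of R))))) := inferInstance
    refine ⟨(RelFGSub.specCone R K).π.app j x, ?_⟩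
    have h2 : (RelFGSub.specCone R K).π.app j ≫ RelFGSub.toBase R K j =
        (Spec (CommRingCat.of R)).fromSpecResidueField
          (genericPoint ↥(Spec (CommRingCat.of R))) := by
      rw [← hφ]
      exact RelFGSub.π_toBase R K j
    have h3 : ((Spec (CommRingCat.of R)).fromSpecResidueField
        (genericPoint ↥(Spec (CommRingCat.of R)))) x = genericPoint ↥(Spec (CommRingCat.of R)) :=
      Scheme.fromSpecResidueField_apply _ x
    rw [← Scheme.Hom.comp_apply, h2]
    exact h3
  have hdom : IsDomain ↥j.unop.1 := inferInstance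
  have hN : IsNoetherianRing ↥j.unop.1 := by
    have : Algebra.FiniteType R ↥j.unop.1 := (Subalgebra.fg_iff_finiteType _).mp j.unop.2
    exact Algebra.FiniteType.isNoetherianRing R _
  exact ⟨↥j.unop.1, inferInstance, hdom, hN, RelFGSub.toBase R K j, _, _, _, _, _, _,
    inferInstance, hqc, hmem, hYj, hXj, hj⟩

end Groth.Agent.Helper7.FibProper
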