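import Mathlib
import Groth.Agent.Lib.Helper7.FibProper.Spread

set_option autoImplicit false
set_option linter.style.haveILetI false
set_option linter.unusedVariables false
set_option linter.unusedSectionVars false
set_option backward.isDefEq.respectTransparency.types false

open CategoryTheory CategoryTheory.Limits AlgebraicGeometry Opposite Topology TopologicalSpace

universe u

/-! helper7: separatedness and properness of the morphisms of fibres are constructible relations
on morphisms of algebraic schemes (EGA IV 9.6.1), the latter by Chow's lemma. -/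

namespace Groth.Agent.Helper7.FibProper

open Groth.Agent.Helper7.ConsMor Groth.Agent.Helper7.FibTop Groth.Agent.Helper7.LimStage
  Groth.Agent.Helper7.ConsPair Groth.Agent.Helper7

theorem isConsMor_isSeparated :
    ConsProp.IsConsMor (MorProp (@IsSeparated : MorphismProperty Scheme.{u})) :=
  isConsMor_of_isLocallyConstructible _ isFieldStableMor_isSeparated
    (fun f g => isLocallyConstructible_setOf_isSeparated f g)

set_option backward.isDefEq.respectTransparency false in
/-- the generic dichotomy for properness of the fibre maps of a separated morphism, by Chow's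
lemma. -/
theorem generic_isProper_of_isSeparated {X Y S : Scheme.{u}} (f : X ⟶ Y) (g : Y ⟶ S)
    [IsIntegral S] [IsNoetherian S] [LocallyOfFiniteType g] [QuasiCompact g]
    [LocallyOfFiniteType (f ≫ g)] [QuasiCompact (f ≫ g)] [IsSeparated f] :
    (interior (ConsProp.locusMor (MorProp (@IsProper : MorphismProperty Scheme.{u})) f g)).Nonempty ∨
      (interior (ConsProp.locusMor (MorProp (@IsProper : MorphismProperty Scheme.{u})) f g)ᶜ).Nonempty := by
  haveI : IsLocallyNoetherian Y := LocallyOfFiniteType.isLocallyNoetherian g
  haveI : CompactSpace Y := QuasiCompact.compactSpace_of_compactSpace g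
  haveI : IsNoetherian Y := {}
  haveI : LocallyOfFiniteType f := locallyOfFiniteType_of_comp f g
  haveI : QuasiCompact f := QuasiCompact.of_comp f g
  obtain ⟨X', π, ⟨n, j, hj, hjqc, hjπ⟩, -, hπ, hπs, -⟩ :=
    Groth.Agent.Helper1.Chow.exists_chow_ega f (Or.inl inferInstance)
  haveI := hj
  haveI := hjqc
  haveI := hπ
  haveI := hπs
  have key : ConsProp.locusMor (MorProp (@IsProper : MorphismProperty Scheme.{u})) f g =
      locusTop closedFst (CohB1.ProjSpaceOver.toBase n Y ≫ g) (Set.range j) (Set.range j) := by
    ext s
    exact isProper_fiberMap_iff π f g j (CohB1.ProjSpaceOver.toBase n Y) hjπ.symm s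
  rw [key]
  haveI : IsLocallyNoetherian (CohB1.ProjSpaceOver n Y) :=
    LocallyOfFiniteType.isLocallyNoetherian (CohB1.ProjSpaceOver.toBase n Y)
  haveI : CompactSpace (CohB1.ProjSpaceOver n Y) :=
    QuasiCompact.compactSpace_of_compactSpace (CohB1.ProjSpaceOver.toBase n Y)
  haveI : IsNoetherian (CohB1.ProjSpaceOver n Y) := {}
  haveI : LocallyOfFiniteType (j ≫ CohB1.ProjSpaceOver.toBase n Y) := by
    rw [hjπ]; infer_instance
  haveI : LocallyOfFiniteType j := locallyOfFiniteType_of_comp j (CohB1.ProjSpaceOver.toBase n Y)
  have hjc : IsConstructible (Set.range j) := by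
    rw [← Set.image_univ]
    exact j.isConstructible_image IsConstructible.univ
  exact genericTop_closedFst (CohB1.ProjSpaceOver.toBase n Y ≫ g) _ _ hjc hjc

set_option backward.isDefEq.respectTransparency false in
/-- the generic dichotomy for properness over an affine base. -/
theorem generic_isProper_affine (R : Type u) [CommRing R] [IsDomain R] [IsNoetherianRing R]
    {X Y : Scheme.{u}} (f : X ⟶ Y) (g : Y ⟶ Spec (CommRingCat.of R))
    [LocallyOfFiniteType g] [QuasiCompact g] [LocallyOfFiniteType (f ≫ g)]
    [QuasiCompact (f ≫ g)] :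
    (interior (ConsProp.locusMor (MorProp (@IsProper : MorphismProperty Scheme.{u})) f g)).Nonempty ∨
      (interior (ConsProp.locusMor (MorProp (@IsProper : MorphismProperty Scheme.{u})) f g)ᶜ).Nonempty := by
  rcases (isConsMor_isSeparated.{u}).2 f g with h | h
  · have hη : genericPoint ↥(Spec (CommRingCat.of R)) ∈
        ConsProp.locusMor (MorProp (@IsSeparated : MorphismProperty Scheme.{u})) f g := by
      obtain ⟨x, hx⟩ := h
      exact interior_subset (((genericPoint_spec ↥(Spec (CommRingCat.of R))).mem_open_set_iff
        isOpen_interior).mpr ⟨x, trivial, hx⟩)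
    obtain ⟨C, _, _, _, π, X', Y', f', g', pX, pY, _, _, hmem, hY, hX, hf'⟩ :=
      exists_spread_mor @IsSeparated hasStage_isSeparated R f g hη
    obtain ⟨i1, i2, i3, i4⟩ := lft_comp_of_isPullback hY hX
    haveI : IsSeparated f' := hf'
    exact interior_or_of_transfer isFieldStableMor_isProper f g π f' g' pX pY hY hX hmem
      (generic_isProper_of_isSeparated f' g')
  · right
    obtain ⟨x, hx⟩ := h
    refine ⟨x, interior_mono ?_ hx⟩
    intro s hs hp
    apply hs
    have hp' : IsProper (MoreMor.fiberMap f g s) := hp
    exact (inferInstance : IsSeparated (MoreMor.fiberMap f g s))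

set_option backward.isDefEq.respectTransparency false in
theorem isConsMor_isProper :
    ConsProp.IsConsMor (MorProp (@IsProper : MorphismProperty Scheme.{u})) := by
  refine ⟨isFieldStableMor_isProper, ?_⟩
  intro X Y S f g _ _ _ _ _ _
  obtain ⟨V, hV, hne⟩ : ∃ V : S.Opens, IsAffineOpen V ∧ Nonempty ↥V := by
    obtain ⟨x⟩ := (inferInstance : Nonempty S)
    obtain ⟨_, ⟨V, hV : IsAffineOpen V, rfl⟩, hxV, -⟩ :=
      S.isBasis_affineOpens.exists_subset_of_mem_open (a := x) (Set.mem_univ x) isOpen_univ
    exact ⟨V, hV, ⟨⟨x, hxV⟩⟩⟩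
  have hY := IsPullback.of_hasPullback g hV.fromSpec
  have hX := IsPullback.of_hasPullback f (pullback.fst g hV.fromSpec)
  obtain ⟨i1, i2, i3, i4⟩ := lft_comp_of_isPullback hY hX
  have : IsDomain ↑Γ(S, V) := @IsIntegral.component_integral S _ V hne
  have : IsNoetherianRing ↑Γ(S, V) := IsLocallyNoetherian.component_noetherian ⟨V, hV⟩
  have hgen : hV.fromSpec (genericPoint ↥(Spec Γ(S, V))) = genericPoint ↥S :=
    genericPoint_eq_of_isOpenImmersion hV.fromSpec
  exact interior_or_of_transfer isFieldStableMor_isProper f g hV.fromSpec _ _ _ _ hY hX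
    ⟨_, hgen⟩ (generic_isProper_affine ↑Γ(S, V) _ _)

end Groth.Agent.Helper7.FibProper
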