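import Mathlib
import Groth.Agent.Lib.Helper7.FibProper.Main

set_option autoImplicit false
set_option linter.style.haveILetI false
set_option linter.unusedVariables false
set_option linter.unusedSectionVars false
set_option backward.isDefEq.respectTransparency.types false

open CategoryTheory CategoryTheory.Limits AlgebraicGeometry Opposite Topology TopologicalSpace

universe u

/-! helper7: the loci where the morphism of fibres is proper, resp. finite, are locally
constructible; finiteness over a field is a constructible property of algebraic schemes. -/

namespace Groth.Agent.Helper7.FibProper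

open Groth.Agent.Helper7.ConsMor Groth.Agent.Helper7.FibTop Groth.Agent.Helper7.LimStage
  Groth.Agent.Helper7.ConsPair Groth.Agent.Helper7

section Loci

variable {X Y S : Scheme.{u}} (f : X ⟶ Y) (g : Y ⟶ S)
  [LocallyOfFinitePresentation g] [QuasiCompact g] [QuasiSeparated g]
  [LocallyOfFinitePresentation (f ≫ g)] [QuasiCompact (f ≫ g)] [QuasiSeparated (f ≫ g)]

/-- EGA IV 9.6.1: the locus where the morphism of fibres is proper. -/
theorem isLocallyConstructible_setOf_isProper :
    IsLocallyConstructible {s : S | IsProper (MoreMor.fiberMap f g s)} :=
  isLocallyConstructible_locusMor isConsMor_isProper f g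

set_option backward.isDefEq.respectTransparency false in
/-- EGA IV 9.6.1: the locus where the morphism of fibres is finite. -/
theorem isLocallyConstructible_setOf_isFinite :
    IsLocallyConstructible {s : S | IsFinite (MoreMor.fiberMap f g s)} := by
  have e : {s : S | IsFinite (MoreMor.fiberMap f g s)} =
      {s : S | IsProper (MoreMor.fiberMap f g s)} ∩
        {s : S | LocallyQuasiFinite (FibSurj.fibMap f g s)} := by
    ext s
    exact IsFinite.iff_isProper_and_locallyQuasiFinite (MoreMor.fiberMap f g s)
  rw [e]
  exact (isLocallyConstructible_setOf_isProper f g).inter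
    (FibSurj.isLocallyConstructible_setOf_locallyQuasiFinite f g)

end Loci

section Single

theorem prop_fiberToSpec_congr (Q : MorphismProperty Scheme.{u}) {X S : Scheme.{u}} {u u' : X ⟶ S}
    (h : u' = u) (s : S) :
    Q (u'.fiberToSpecResidueField s) ↔ Q (u.fiberToSpecResidueField s) := by
  subst h
  rfl

set_option backward.isDefEq.respectTransparency false in
/-- the fibre map to the fibre of the identity is the structure morphism of the fibre, up to an
isomorphism of the target. -/
theorem prop_fiberMap_id_iff (Q : MorphismProperty Scheme.{u}) [Q.RespectsIso] {X S : Scheme.{u}}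
    (u : X ⟶ S) (s : S) :
    Q (MoreMor.fiberMap u (𝟙 S) s) ↔ Q (u.fiberToSpecResidueField s) := by
  have h3 : MoreMor.fiberMap u (𝟙 S) s ≫ pullback.snd (𝟙 S) (S.fromSpecResidueField s) =
      (u ≫ 𝟙 S).fiberToSpecResidueField s := pullback.lift_snd _ _ _
  rw [← prop_fiberToSpec_congr Q (Category.comp_id u) s, ← h3]
  exact (MorphismProperty.cancel_right_of_respectsIso Q _ _).symm

set_option backward.isDefEq.respectTransparency false in
/-- finiteness over a field is a constructible property of algebraic schemes. -/
theorem isCons_isFinite :
    ConsProp.IsCons (fun (Y T : Scheme.{u}) (g : Y ⟶ T) => IsFinite g) := by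
  constructor
  · intro Y Y' T T' g g' e h _ _ _ _ _ _ hsq
    constructor
    · intro hg
      exact MorphismProperty.of_isPullback (P := @IsFinite) hsq hg
    · intro hg'
      have hg'' : IsFinite g' := hg'
      haveI : Surjective h := ⟨fun t => ⟨Classical.arbitrary T', Subsingleton.elim _ _⟩⟩
      haveI : IsSeparated g := isSeparated_of_isPullback hsq inferInstance
      haveI : UniversallyClosed g :=
        MorphismProperty.of_isPullback_of_descendsAlong (P := @UniversallyClosed)
          (Q := (@Surjective ⊓ @Flat ⊓ @QuasiCompact : MorphismProperty Scheme.{u}))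
          hsq.flip (fpqc_of_subsingleton h) inferInstance
      haveI : IsProper g := {}
      haveI : LocallyQuasiFinite g :=
        (Groth.Agent.Helper2.AlgSpBasic.locallyQuasiFinite_descendsAlong_fpqc.{u}).of_isPullback
          hsq.flip (fpqc_of_subsingleton h) inferInstance
      exact (IsFinite.iff_isProper_and_locallyQuasiFinite g).mpr ⟨inferInstance, inferInstance⟩
  · intro X S u _ _ _ _
    have : IsLocallyNoetherian X := LocallyOfFiniteType.isLocallyNoetherian u
    have h1 : LocallyOfFiniteType (u ≫ 𝟙 S) := by rw [Category.comp_id]; infer_instance
    have h2 : QuasiCompact (u ≫ 𝟙 S) := by rw [Category.comp_id]; infer_instance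
    have hloc := (isLocallyConstructible_setOf_isFinite u (𝟙 S)).isConstructible
    have e : {s : S | IsFinite (MoreMor.fiberMap u (𝟙 S) s)} =
        ConsProp.locus (fun (Y T : Scheme.{u}) (g : Y ⟶ T) => IsFinite g) u := by
      ext s
      exact prop_fiberMap_id_iff @IsFinite u s
    rw [e] at hloc
    exact interior_nonempty_or_of_isConstructible hloc

end Single

end Groth.Agent.Helper7.FibProper
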