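import Mathlib
import Groth.Agent.Lib.Helper7.FibProper.Fin
import Groth.Agent.Lib.Helper7.GeomFib
import Groth.Agent.Lib.Helper7.GRLocus.Main
import Groth.Agent.Lib.Helper4.FiberUnram

set_option autoImplicit false
set_option linter.style.haveILetI false
set_option linter.unusedVariables false
set_option linter.unusedSectionVars false
set_option backward.isDefEq.respectTransparency.types false

open CategoryTheory CategoryTheory.Limits AlgebraicGeometry Opposite Topology TopologicalSpace

universe u

/-! helper7: a morphism locally of finite type is a closed immersion iff it is proper, radicial and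
geometrically reduced; geometric reducedness is a constructible property of algebraic schemes; the
locus where the morphism of fibres is a closed immersion is locally constructible. -/

namespace Groth.Agent.Helper7.FibProper

open Groth.Agent.Helper7.ConsMor Groth.Agent.Helper7.FibTop Groth.Agent.Helper7.LimStage
  Groth.Agent.Helper7.ConsPair Groth.Agent.Helper7

section Field

set_option backward.isDefEq.respectTransparency false in
/-- a reduced scheme locally of finite type and radicial over an algebraically closed field is
unramified over it. -/
theorem formallyUnramified_of_algClosed {X : Scheme.{u}} (K : Type u) [Field K] [IsAlgClosed K]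
    (f : X ⟶ Spec (CommRingCat.of K)) [LocallyOfFiniteType f] [UniversallyInjective f]
    [IsReduced X] : FormallyUnramified f := by
  haveI : Subsingleton ↥(Spec (CommRingCat.of K)) :=
    inferInstanceAs (Subsingleton (PrimeSpectrum K))
  haveI : Subsingleton X := f.injective.subsingleton
  rcases isEmpty_or_nonempty X with hX | hX
  · haveI : IsClosedImmersion f := inferInstance
    haveI : IsIso (pullback.diagonal f) := (pullback.isIso_diagonal_iff f).mpr inferInstance
    infer_instance
  · haveI : IrreducibleSpace X := ⟨hX⟩
    haveI : IsIntegral X := isIntegral_of_irreducibleSpace_of_isReduced X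
    haveI : IsAffine X := inferInstance
    have hL := isField_of_isIntegral_of_subsingleton X
    letI := hL.toField
    obtain ⟨φ, hφ⟩ := Spec.map_surjective (X.isoSpec.inv ≫ f)
    haveI : LocallyOfFiniteType (Spec.map φ) := by rw [hφ]; infer_instance
    have hft : φ.hom.FiniteType := (HasRingHomProperty.Spec_iff (P := @LocallyOfFiniteType)).mp
      inferInstance
    algebraize [φ.hom]
    haveI : Module.Finite K ↑Γ(X, ⊤) := finite_of_finite_type_of_isJacobsonRing K ↑Γ(X, ⊤)
    have hbij : Function.Bijective (algebraMap K ↑Γ(X, ⊤)) :=
      IsAlgClosed.algebraMap_bijective_of_isIntegral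
    haveI : IsIso φ := by
      rw [ConcreteCategory.isIso_iff_bijective]
      exact hbij
    haveI : IsIso (Spec.map φ) := inferInstance
    haveI : IsIso (X.isoSpec.inv ≫ f) := by rw [← hφ]; infer_instance
    haveI : IsIso f := by
      have : f = X.isoSpec.hom ≫ (X.isoSpec.inv ≫ f) := by simp
      rw [this]; infer_instance
    haveI : IsIso (pullback.diagonal f) := (pullback.isIso_diagonal_iff f).mpr inferInstance
    infer_instance

set_option backward.isDefEq.respectTransparency false in
/-- a geometrically reduced scheme locally of finite type and radicial over a field is unramified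
over it. -/
theorem formallyUnramified_of_field {X : Scheme.{u}} (K : Type u) [Field K]
    (f : X ⟶ Spec (CommRingCat.of K)) [LocallyOfFiniteType f] [UniversallyInjective f]
    [GeometricallyReduced f] : FormallyUnramified f := by
  let t : Spec (CommRingCat.of (AlgebraicClosure K)) ⟶ Spec (CommRingCat.of K) :=
    Spec.map (CommRingCat.ofHom (algebraMap K (AlgebraicClosure K)))
  haveI : IsReduced (pullback f t) :=
    pullback_of_geometrically (P := IsReduced)
      ((geometricallyReduced_iff f).mp inferInstance) (AlgebraicClosure K) t
  haveI : Subsingleton ↥(Spec (CommRingCat.of K)) :=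
    inferInstanceAs (Subsingleton (PrimeSpectrum K))
  haveI : Subsingleton ↥(Spec (CommRingCat.of (AlgebraicClosure K))) :=
    inferInstanceAs (Subsingleton (PrimeSpectrum (AlgebraicClosure K)))
  haveI : UniversallyInjective (pullback.snd f t) :=
    MorphismProperty.pullback_snd (P := @UniversallyInjective) f t inferInstance
  haveI : LocallyOfFiniteType (pullback.snd f t) :=
    MorphismProperty.pullback_snd (P := @LocallyOfFiniteType) f t inferInstance
  have h1 : FormallyUnramified (pullback.snd f t) :=
    formallyUnramified_of_algClosed (AlgebraicClosure K) (pullback.snd f t)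
  exact MorphismProperty.of_isPullback_of_descendsAlong (P := @FormallyUnramified)
    (Q := (@Surjective ⊓ @Flat ⊓ @QuasiCompact : MorphismProperty Scheme.{u}))
    (IsPullback.of_hasPullback f t).flip (fpqc_of_subsingleton t) h1

end Field

section Criterion

set_option backward.isDefEq.respectTransparency false in
/-- a closed subscheme of the spectrum of a field is reduced. -/
theorem isReduced_of_isClosedImmersion_field {Z : Scheme.{u}} (K : Type u) [Field K]
    (a : Z ⟶ Spec (CommRingCat.of K)) [IsClosedImmersion a] : IsReduced Z := by
  obtain ⟨I, e, he⟩ := (IsClosedImmersion.Spec_iff (f := a)).mp inferInstance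
  have hI : I.IsRadical := by
    rcases Ideal.eq_bot_or_top I with h | h
    · rw [h]; exact Ideal.isRadical_bot
    · rw [h]; exact fun _ _ => Submodule.mem_top
  haveI : _root_.IsReduced (K ⧸ I) := (Ideal.isRadical_iff_quotient_reduced I).mp hI
  exact isReduced_of_isOpenImmersion e.hom

set_option backward.isDefEq.respectTransparency false in
/-- a morphism locally of finite type is a closed immersion iff it is proper, radicial and
geometrically reduced. -/
theorem isClosedImmersion_iff_proper_ui_gr {A B : Scheme.{u}} (φ : A ⟶ B)
    [LocallyOfFiniteType φ] :
    IsClosedImmersion φ ↔ IsProper φ ∧ UniversallyInjective φ ∧ GeometricallyReduced φ := by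
  constructor
  · intro h
    refine ⟨inferInstance, inferInstance, ?_⟩
    rw [geometricallyReduced_iff]
    intro K _ y Z fst snd hpb
    haveI : IsClosedImmersion snd :=
      MorphismProperty.of_isPullback (P := @IsClosedImmersion) hpb inferInstance
    exact isReduced_of_isClosedImmersion_field K snd
  · rintro ⟨h1, h2, h3⟩
    have hfu : FormallyUnramified φ := by
      apply Groth.Agent.Lib.Helper4.FiberUnram.FormallyUnramified.of_fiberToSpecResidueField
      intro w
      haveI : UniversallyInjective (φ.fiberToSpecResidueField w) :=
        MorphismProperty.pullback_snd (P := @UniversallyInjective) _ _ inferInstance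
      haveI : LocallyOfFiniteType (φ.fiberToSpecResidueField w) :=
        MorphismProperty.pullback_snd (P := @LocallyOfFiniteType) _ _ inferInstance
      haveI : GeometricallyReduced (φ.fiberToSpecResidueField w) :=
        MorphismProperty.pullback_snd (P := @GeometricallyReduced) _ _ inferInstance
      exact formallyUnramified_of_field (B.residueField w) (φ.fiberToSpecResidueField w)
    have h3' : IsOpenImmersion (pullback.diagonal φ) := inferInstance
    have h4 : Surjective (pullback.diagonal φ) := (UniversallyInjective.iff_diagonal φ).mp h2
    have h5 : IsIso (pullback.diagonal φ) :=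
      (isIso_iff_isOpenImmersion_and_surjective _).mpr ⟨h3', h4⟩
    haveI : Mono φ := (pullback.isIso_diagonal_iff φ).mp h5
    exact (IsClosedImmersion.iff_isProper_and_mono φ).mpr ⟨h1, inferInstance⟩

end Criterion

section Cons

set_option backward.isDefEq.respectTransparency false in
/-- geometric reducedness is a constructible property of algebraic schemes. -/
theorem isCons_geometricallyReduced :
    ConsProp.IsCons (fun (Y T : Scheme.{u}) (g : Y ⟶ T) => GeometricallyReduced g) := by
  constructor
  · intro Y Y' T T' g g' e h _ _ _ _ _ _ hsq
    constructor
    · intro hg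
      exact MorphismProperty.of_isPullback (P := @GeometricallyReduced) hsq hg
    · intro hg'
      have hg'' : GeometricallyReduced g' := hg'
      letI := (isField_of_isIntegral_of_subsingleton T).toField
      letI := (isField_of_isIntegral_of_subsingleton T').toField
      obtain ⟨φ, hφ⟩ := Spec.map_surjective (T'.isoSpec.inv ≫ h ≫ T.isoSpec.hom)
      have hv : IsPullback h T'.isoSpec.hom T.isoSpec.hom (T'.isoSpec.inv ≫ h ≫ T.isoSpec.hom) :=
        IsPullback.of_vert_isIso ⟨by simp⟩
      have hsq' : IsPullback e (g' ≫ T'.isoSpec.hom) (g ≫ T.isoSpec.hom) (Spec.map φ) := by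
        rw [hφ]
        exact hsq.paste_vert hv
      have ha : geometrically IsReduced (g' ≫ T'.isoSpec.hom) := by
        have : GeometricallyReduced (g' ≫ T'.isoSpec.hom) :=
          (MorphismProperty.cancel_right_of_respectsIso @GeometricallyReduced g'
            T'.isoSpec.hom).mpr hg''
        exact (geometricallyReduced_iff _).mp this
      have hb := Groth.Agent.Helper7.GeomFib.geometrically_of_isPullback_field
        (P := IsReduced) (by
          intro L Ω _ _ i Z snd hZ
          have hZ' : IsReduced (pullback snd (Spec.map (CommRingCat.ofHom i))) := hZ
          have hsub : Subsingleton ↥(Spec (CommRingCat.of L)) :=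
            inferInstanceAs (Subsingleton (PrimeSpectrum L))
          have hint : IsIntegral (Spec (CommRingCat.of L)) := inferInstance
          have hflat : Flat snd := inferInstance
          have hdom : IsSchemeTheoreticallyDominant (Spec.map (CommRingCat.ofHom i)) :=
            IsSchemeTheoreticallyDominant.of_isDominant _
          have := IsSchemeTheoreticallyDominant.pullbackFst snd
            (Spec.map (CommRingCat.ofHom i))
          exact IsSchemeTheoreticallyDominant.isReduced
            (pullback.fst snd (Spec.map (CommRingCat.ofHom i))))
        φ (g ≫ T.isoSpec.hom) (g' ≫ T'.isoSpec.hom) e hsq' ha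
      have : GeometricallyReduced (g ≫ T.isoSpec.hom) := (geometricallyReduced_iff _).mpr hb
      exact (MorphismProperty.cancel_right_of_respectsIso @GeometricallyReduced g
        T.isoSpec.hom).mp this
  · intro X S u _ _ _ _
    have : IsLocallyNoetherian X := LocallyOfFiniteType.isLocallyNoetherian u
    have hloc := (Groth.Agent.Helper7.GRLocus.isLocallyConstructible_geometricallyReduced_locus
      u).isConstructible
    exact interior_nonempty_or_of_isConstructible hloc

end Cons

section Locus

variable {X Y S : Scheme.{u}} (f : X ⟶ Y) (g : Y ⟶ S)
  [LocallyOfFinitePresentation g] [QuasiCompact g] [QuasiSeparated g]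
  [LocallyOfFinitePresentation (f ≫ g)] [QuasiCompact (f ≫ g)] [QuasiSeparated (f ≫ g)]

set_option backward.isDefEq.respectTransparency false in
/-- EGA IV 9.6.1: the locus where the morphism of fibres is a closed immersion. -/
theorem isLocallyConstructible_setOf_isClosedImmersion :
    IsLocallyConstructible {s : S | IsClosedImmersion (MoreMor.fiberMap f g s)} := by
  haveI : LocallyOfFiniteType f := locallyOfFiniteType_of_comp f g
  have e : {s : S | IsClosedImmersion (MoreMor.fiberMap f g s)} =
      {s : S | IsProper (MoreMor.fiberMap f g s)} ∩
        ({s : S | UniversallyInjective (FibSurj.fibMap f g s)} ∩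
          ConsProp.locusMor (fibProp
            (fun (Y T : Scheme.{u}) (g : Y ⟶ T) => GeometricallyReduced g)) f g) := by
    ext s
    haveI : LocallyOfFiniteType (MoreMor.fiberMap f g s) :=
      MorphismProperty.of_isPullback (P := @LocallyOfFiniteType) (isPullback_fiberMap f g s)
        inferInstance
    have h1 := isClosedImmersion_iff_proper_ui_gr (MoreMor.fiberMap f g s)
    have h2 : GeometricallyReduced (MoreMor.fiberMap f g s) ↔
        ∀ y, GeometricallyReduced ((MoreMor.fiberMap f g s).fiberToSpecResidueField y) := by
      simp only [GeometricallyReduced.eq_geometrically]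
      exact geometrically_iff_forall_fiberToSpecResidueField
    rw [h2] at h1
    exact h1
  rw [e]
  exact (isLocallyConstructible_setOf_isProper f g).inter
    ((FibSurj.isLocallyConstructible_setOf_universallyInjective f g).inter
      (isLocallyConstructible_locusMor (isConsMor_fibProp isCons_geometricallyReduced) f g))

end Locus

end Groth.Agent.Helper7.FibProper
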