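import Mathlib
import Groth.Agent.Lib.Helper7.FibProper.Main

set_option autoImplicit false
set_option linter.style.haveILetI false
set_option linter.unusedVariables false
set_option linter.unusedSectionVars false
set_option backward.isDefEq.respectTransparency.types false

open CategoryTheory CategoryTheory.Limits AlgebraicGeometry Opposite Topology TopologicalSpace

universe u

/-! helper7: relations between pairs of algebraic schemes given by the existence, after a field
extension, of a morphism with a property that is fibrewise a constructible relation on morphisms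
(for instance properness): spreading out the morphism over a finitely generated subalgebra and
ind-constructibility of the relation. -/

namespace Groth.Agent.Helper7.FibProper

open Groth.Agent.Helper7.ConsMor Groth.Agent.Helper7.FibTop Groth.Agent.Helper7.LimStage
  Groth.Agent.Helper7.ConsPair Groth.Agent.Helper7

/-- if after a base change `S' ⟶ S` there is a morphism between the two families whose fibre map
at a point has `Q`, then the relation holds at the image of that point. -/
theorem mem_locusPair_of_fiber (Q : MorphismProperty Scheme.{u})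
    {X Y S S' X' Y' : Scheme.{u}} (u : X ⟶ S) (v : Y ⟶ S) (π : S' ⟶ S) (u' : X' ⟶ S')
    (v' : Y' ⟶ S') (pX : X' ⟶ X) (pY : Y' ⟶ Y) (hX : IsPullback pX u' u π)
    (hY : IsPullback pY v' v π) (g : X' ⟶ Y') (hg : g ≫ v' = u') (s' : S')
    (hQ : Q (MoreMor.fiberMap g v' s')) :
    π s' ∈ ConsPropPair.locusPair (PairProp Q) u v := by
  subst hg
  show PairProp Q (u.fiberToSpecResidueField (π s')) (v.fiberToSpecResidueField (π s'))
  exact ⟨Spec (S'.residueField s'), (g ≫ v').fiber s', v'.fiber s',
    Spec.map (π.residueFieldMap s'), (g ≫ v').fiberToSpecResidueField s',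
    v'.fiberToSpecResidueField s', _, _, inferInstance, inferInstance,
    isPullback_fiberToSpecResidueField_of_isPullback hX s',
    isPullback_fiberToSpecResidueField_of_isPullback hY s',
    MoreMor.fiberMap g v' s', fiberMap_fiberToSpecResidueField _ _ _, hQ⟩

set_option backward.isDefEq.respectTransparency false in
/-- spreading out a morphism between the base changes of two schemes of finite presentation over
`Spec R` to an `R`-algebra `K`: it comes from a morphism between the base changes to a finitely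
generated `R`-subalgebra of `K`. -/
theorem exists_spread_hom (R : Type u) [CommRing R] [IsNoetherianRing R] {X Y : Scheme.{u}}
    (u : X ⟶ Spec (CommRingCat.of R)) (v : Y ⟶ Spec (CommRingCat.of R))
    [LocallyOfFinitePresentation u] [QuasiCompact u] [QuasiSeparated u]
    [LocallyOfFinitePresentation v] [QuasiCompact v] [QuasiSeparated v]
    (K : Type u) [CommRing K] (t : Spec (CommRingCat.of K) ⟶ Spec (CommRingCat.of R))
    {X' Y' : Scheme.{u}} {eX : X' ⟶ X} {gX' : X' ⟶ Spec (CommRingCat.of K)}
    (hX : IsPullback eX gX' u t) {eY : Y' ⟶ Y} {gY' : Y' ⟶ Spec (CommRingCat.of K)}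
    (hY : IsPullback eY gY' v t) (g : X' ⟶ Y') (hg : g ≫ gY' = gX') :
    ∃ (C : Type u) (_ : CommRing C) (_ : IsNoetherianRing C)
      (π : Spec (CommRingCat.of C) ⟶ Spec (CommRingCat.of R))
      (ρ : Spec (CommRingCat.of K) ⟶ Spec (CommRingCat.of C)) (_ : LocallyOfFiniteType π)
      (_ : QuasiCompact π) (X₁ Y₁ : Scheme.{u}) (u₁ : X₁ ⟶ Spec (CommRingCat.of C))
      (v₁ : Y₁ ⟶ Spec (CommRingCat.of C)) (pX : X₁ ⟶ X) (pY : Y₁ ⟶ Y) (sX : X' ⟶ X₁)
      (sY : Y' ⟶ Y₁) (g₁ : X₁ ⟶ Y₁), ρ ≫ π = t ∧ IsPullback pX u₁ u π ∧ IsPullback pY v₁ v π ∧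
        g₁ ≫ v₁ = u₁ ∧ IsPullback sY gY' v₁ ρ ∧ IsPullback sX g g₁ sY := by
  obtain ⟨φ, rfl⟩ := Spec.map_surjective t
  letI : Algebra R K := φ.hom.toAlgebra
  let i₀ : (RelFGSub.Idx R K)ᵒᵖ := op ⟨⊥, Subalgebra.fg_bot⟩
  have hπ : (RelFGSub.specCone R K).π.app i₀ ≫ RelFGSub.toBase R K i₀ = Spec.map φ :=
    RelFGSub.π_toBase R K i₀
  obtain ⟨qX, hqX, hX₀⟩ := exists_isPullback_of_fac
    (IsPullback.of_hasPullback u (RelFGSub.toBase R K i₀)) ((RelFGSub.specCone R K).π.app i₀)
    (Spec.map φ) hπ hX
  obtain ⟨qY, hqY, hY₀⟩ := exists_isPullback_of_fac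
    (IsPullback.of_hasPullback v (RelFGSub.toBase R K i₀)) ((RelFGSub.specCone R K).π.app i₀)
    (Spec.map φ) hπ hY
  have hcs : ∀ j : (RelFGSub.Idx R K)ᵒᵖ, CompactSpace ↥((RelFGSub.specDiag R K).obj j) := by
    intro j
    show CompactSpace ↥(Spec _)
    infer_instance
  have hqs : ∀ j : (RelFGSub.Idx R K)ᵒᵖ,
      QuasiSeparatedSpace ↥((RelFGSub.specDiag R K).obj j) := by
    intro j
    show QuasiSeparatedSpace ↥(Spec _)
    infer_instance
  have := hcs i₀
  have := hqs i₀
  have : CompactSpace ↥(pullback u (RelFGSub.toBase R K i₀)) :=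
    QuasiCompact.compactSpace_of_compactSpace (pullback.snd u (RelFGSub.toBase R K i₀))
  have : QuasiSeparatedSpace ↥(pullback u (RelFGSub.toBase R K i₀)) :=
    quasiSeparatedSpace_of_quasiSeparated (pullback.snd u (RelFGSub.toBase R K i₀))
  obtain ⟨j, ψ, fj, sX, sY, h1, h2, h3, h4, h5, h6⟩ :=
    Groth.Agent.Helper7.LimHom.exists_hom_descend (RelFGSub.specDiag R K) (RelFGSub.specCone R K)
      (RelFGSub.isLimit_specCone R K).some i₀ (pullback.snd u (RelFGSub.toBase R K i₀))
      (pullback.snd v (RelFGSub.toBase R K i₀)) hX₀ hY₀ g hg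
  have hY' : IsPullback sY gY' (pullback.snd (pullback.snd v (RelFGSub.toBase R K i₀))
      ((RelFGSub.specDiag R K).map ψ)) ((RelFGSub.specCone R K).π.app j) := by
    refine IsPullback.of_right ?_ h5 (IsPullback.of_hasPullback _ ((RelFGSub.specDiag R K).map ψ))
    rw [h4, (RelFGSub.specCone R K).w ψ]
    exact hY₀
  have hX₁ : IsPullback sX gX' (pullback.snd (pullback.snd u (RelFGSub.toBase R K i₀))
      ((RelFGSub.specDiag R K).map ψ)) ((RelFGSub.specCone R K).π.app j) := by
    refine IsPullback.of_right ?_ h3 (IsPullback.of_hasPullback _ ((RelFGSub.specDiag R K).map ψ))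
    rw [h2, (RelFGSub.specCone R K).w ψ]
    exact hX₀
  have hX' : IsPullback sX g fj sY := by
    refine IsPullback.of_bot ?_ h6 hY'
    rw [hg, h1]
    exact hX₁
  have hqc : QuasiCompact (RelFGSub.toBase R K j) := by
    show QuasiCompact (Spec.map _)
    infer_instance
  have hN : IsNoetherianRing ↥j.unop.1 := by
    have : Algebra.FiniteType R ↥j.unop.1 := (Subalgebra.fg_iff_finiteType _).mp j.unop.2
    exact Algebra.FiniteType.isNoetherianRing R _
  refine ⟨↥j.unop.1, inferInstance, hN, RelFGSub.toBase R K j, (RelFGSub.specCone R K).π.app j,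
    inferInstance, hqc, _, _, _, _,
    pullback.fst (pullback.snd u (RelFGSub.toBase R K i₀)) ((RelFGSub.specDiag R K).map ψ) ≫
      pullback.fst u (RelFGSub.toBase R K i₀),
    pullback.fst (pullback.snd v (RelFGSub.toBase R K i₀)) ((RelFGSub.specDiag R K).map ψ) ≫
      pullback.fst v (RelFGSub.toBase R K i₀), sX, sY, fj, RelFGSub.π_toBase R K j, ?_, ?_, h1,
    hY', hX'⟩
  · have e1 := (IsPullback.of_hasPullback (pullback.snd u (RelFGSub.toBase R K i₀))
      ((RelFGSub.specDiag R K).map ψ)).paste_horiz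
      (IsPullback.of_hasPullback u (RelFGSub.toBase R K i₀))
    rwa [RelFGSub.map_toBase] at e1
  · have e1 := (IsPullback.of_hasPullback (pullback.snd v (RelFGSub.toBase R K i₀))
      ((RelFGSub.specDiag R K).map ψ)).paste_horiz
      (IsPullback.of_hasPullback v (RelFGSub.toBase R K i₀))
    rwa [RelFGSub.map_toBase] at e1

set_option backward.isDefEq.respectTransparency false in
/-- the generic part over an affine Noetherian integral base, for a property whose fibrewise
locus is a constructible relation on morphisms. -/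
theorem interior_locusPair_nonempty_affine_of_isConsMor (Q : MorphismProperty Scheme.{u})
    [Q.IsStableUnderBaseChange] (hQ : ConsProp.IsConsMor (MorProp Q)) (R : Type u) [CommRing R]
    [IsDomain R] [IsNoetherianRing R] {X Y : Scheme.{u}} (u : X ⟶ Spec (CommRingCat.of R))
    (v : Y ⟶ Spec (CommRingCat.of R)) [LocallyOfFiniteType u] [QuasiCompact u]
    [LocallyOfFiniteType v] [QuasiCompact v]
    (hη : genericPoint ↥(Spec (CommRingCat.of R)) ∈ ConsPropPair.locusPair (PairProp Q) u v) :
    (interior (ConsPropPair.locusPair (PairProp Q) u v)).Nonempty := by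
  obtain ⟨T', X', Y', h, gX', gY', eX, eY, hint, hsub, hX, hY, g, hg, hQg⟩ := hη
  have hX₀ : IsPullback (eX ≫ u.fiberι (genericPoint ↥(Spec (CommRingCat.of R)))) gX' u
      (h ≫ (Spec (CommRingCat.of R)).fromSpecResidueField
        (genericPoint ↥(Spec (CommRingCat.of R)))) :=
    hX.paste_horiz (IsPullback.of_hasPullback u _)
  have hY₀ : IsPullback (eY ≫ v.fiberι (genericPoint ↥(Spec (CommRingCat.of R)))) gY' v
      (h ≫ (Spec (CommRingCat.of R)).fromSpecResidueField
        (genericPoint ↥(Spec (CommRingCat.of R)))) :=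
    hY.paste_horiz (IsPullback.of_hasPullback v _)
  have hX₁ := isPullback_of_iso_base hX₀ T'.isoSpec
  have hY₁ := isPullback_of_iso_base hY₀ T'.isoSpec
  have : IsLocallyNoetherian X := LocallyOfFiniteType.isLocallyNoetherian u
  have : IsLocallyNoetherian Y := LocallyOfFiniteType.isLocallyNoetherian v
  obtain ⟨C, _, _, π, ρ, hπlft, hπqc, X₁, Y₁, u₁, v₁, pX, pY, sX, sY, g₁, hρπ, hpX, hpY, hg₁,
    hsY, hsX⟩ := exists_spread_hom R u v ↑Γ(T', ⊤)
      (T'.isoSpec.inv ≫ h ≫ (Spec (CommRingCat.of R)).fromSpecResidueField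
        (genericPoint ↥(Spec (CommRingCat.of R)))) hX₁ hY₁ g
      (by rw [← Category.assoc, hg])
  -- finiteness of the spread-out families
  have hu₁ : LocallyOfFiniteType u₁ := MorphismProperty.of_isPullback hpX inferInstance
  have hu₁' : QuasiCompact u₁ := MorphismProperty.of_isPullback hpX inferInstance
  have hv₁ : LocallyOfFiniteType v₁ := MorphismProperty.of_isPullback hpY inferInstance
  have hv₁' : QuasiCompact v₁ := MorphismProperty.of_isPullback hpY inferInstance
  have hgv₁ : LocallyOfFiniteType (g₁ ≫ v₁) := by rw [hg₁]; exact hu₁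
  have hgv₁' : QuasiCompact (g₁ ≫ v₁) := by rw [hg₁]; exact hu₁'
  have : IsLocallyNoetherian Y₁ := LocallyOfFiniteType.isLocallyNoetherian v₁
  have : IsLocallyNoetherian X₁ := LocallyOfFiniteType.isLocallyNoetherian (g₁ ≫ v₁)
  have hE : IsConstructible (ConsProp.locusMor (MorProp Q) g₁ v₁) :=
    (isLocallyConstructible_locusMor hQ g₁ v₁).isConstructible
  -- the point of the stage under the given point
  obtain ⟨x⟩ := (inferInstance : Nonempty T')
  have hmemE : ρ (T'.isoSpec.hom x) ∈ ConsProp.locusMor (MorProp Q) g₁ v₁ := by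
    have h1 := locusMor_eq_preimage hQ.1 g₁ v₁ ρ g (gY' ≫ T'.isoSpec.hom) sX sY hsY hsX
    have h2 : T'.isoSpec.hom x ∈ ConsProp.locusMor (MorProp Q) g (gY' ≫ T'.isoSpec.hom) :=
      mem_locusMor_of_prop Q g _ hQg _
    rw [h1] at h2
    exact h2
  have hπρ : π (ρ (T'.isoSpec.hom x)) = genericPoint ↥(Spec (CommRingCat.of R)) := by
    rw [← Scheme.Hom.comp_apply, hρπ, ← Scheme.Hom.comp_apply, Iso.hom_inv_id_assoc,
      Scheme.Hom.comp_apply, Scheme.fromSpecResidueField_apply]
  have hcons : IsConstructible (π '' ConsProp.locusMor (MorProp Q) g₁ v₁) :=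
    π.isConstructible_image hE
  have hd : Dense (π '' ConsProp.locusMor (MorProp Q) g₁ v₁) := by
    have h1 : Dense ({genericPoint ↥(Spec (CommRingCat.of R))} :
        Set ↥(Spec (CommRingCat.of R))) := by
      rw [dense_iff_closure_eq]
      exact (genericPoint_spec ↥(Spec (CommRingCat.of R))).def
    exact h1.mono (Set.singleton_subset_iff.mpr ⟨_, hmemE, hπρ⟩)
  obtain ⟨U, hUo, ⟨y, hy⟩, hUsub⟩ :=
    (Groth.Agent.Helper1.ConstrL.dense_iff_exists_open_of_isConstructible hcons).mp hd
  refine ⟨y, mem_interior.mpr ⟨U, ?_, hUo, hy⟩⟩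
  intro s hs
  obtain ⟨s', hs', rfl⟩ := hUsub hs
  exact mem_locusPair_of_fiber Q u v π u₁ v₁ pX pY hpX hpY g₁ hg₁ s' hs'

set_option backward.isDefEq.respectTransparency false in
/-- the relation "after a field extension there is a morphism with `Q`" is ind-constructible as
soon as `Q` is stable under base change and is fibrewise a constructible relation on
morphisms. -/
theorem isIndConsPair_pairProp_of_isConsMor (Q : MorphismProperty Scheme.{u})
    [Q.IsStableUnderBaseChange] (hQ : ConsProp.IsConsMor (MorProp Q)) :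
    ConsPropPair.IsIndConsPair (PairProp Q) := by
  refine ⟨isFieldStablePair_pairProp Q, ?_⟩
  intro X Y S u v _ _ _ _ _ _ hη
  obtain ⟨V, hV, hne⟩ : ∃ V : S.Opens, IsAffineOpen V ∧ Nonempty ↥V := by
    obtain ⟨x⟩ := (inferInstance : Nonempty S)
    obtain ⟨_, ⟨V, hV : IsAffineOpen V, rfl⟩, hxV, -⟩ :=
      S.isBasis_affineOpens.exists_subset_of_mem_open (a := x) (Set.mem_univ x) isOpen_univ
    exact ⟨V, hV, ⟨⟨x, hxV⟩⟩⟩
  have hloc := locusPair_eq_preimage (isFieldStablePair_pairProp Q) u v hV.fromSpec
    (pullback.snd u hV.fromSpec) (pullback.snd v hV.fromSpec) (pullback.fst u hV.fromSpec)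
    (pullback.fst v hV.fromSpec) (IsPullback.of_hasPullback u hV.fromSpec)
    (IsPullback.of_hasPullback v hV.fromSpec)
  have : IsDomain ↑Γ(S, V) := @IsIntegral.component_integral S _ V hne
  have : IsNoetherianRing ↑Γ(S, V) := IsLocallyNoetherian.component_noetherian ⟨V, hV⟩
  have hgen : hV.fromSpec (genericPoint ↥(Spec Γ(S, V))) = genericPoint ↥S :=
    genericPoint_eq_of_isOpenImmersion hV.fromSpec
  obtain ⟨x, hx⟩ := interior_locusPair_nonempty_affine_of_isConsMor Q hQ ↑Γ(S, V)
    (pullback.snd u hV.fromSpec) (pullback.snd v hV.fromSpec) (by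
      rw [hloc]
      refine Set.mem_preimage.mpr ?_
      have h2 : hV.fromSpec (genericPoint ↥(Spec (CommRingCat.of ↑Γ(S, V)))) =
          genericPoint ↥S := hgen
      rw [h2]
      exact hη)
  rw [hloc] at hx
  refine ⟨hV.fromSpec x, ?_⟩
  rw [← hV.fromSpec.isOpenEmbedding.isOpenMap.preimage_interior_eq_interior_preimage
    hV.fromSpec.continuous] at hx
  exact hx

/-- properness: the relation "after a field extension there is a proper morphism between the
base changes" is an ind-constructible property of pairs of algebraic schemes. -/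
theorem isIndConsPair_isProper :
    ConsPropPair.IsIndConsPair (PairProp (@IsProper : MorphismProperty Scheme.{u})) :=
  isIndConsPair_pairProp_of_isConsMor _ isConsMor_isProper

end Groth.Agent.Helper7.FibProper
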